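import Cfsg.Agent.Known.BSt.Mono
import Cfsg.Agent.Known.BSt.Restrict
import Cfsg.Agent.Known.OPlusSt.Omega
import Cfsg.Agent.Classical.Orth.StdForms

/-!
# The orthogonal group of odd dimension inside the split one of dimension one more
-/

set_option autoImplicit false
set_option linter.unusedSectionVars false

open Matrix

namespace Cfsg.Lib.BSt

open Cfsg.Lib.SpPres (Sgn op mag op_op op_inj op_ne mag_op eq_or_op ne_of_mag op_eq_iff)
open Cfsg.Lib.OPlusSt (O T Mt N mat mat_mul mat_one mat_T mat_ext mem_O Mt_mulVec polar_single)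
open Cfsg.Lib.Classical.Refl (oddForm oddForm_coe oddForm_nondegenerate siegelMap siegelG mat_siegelG siegel_add
  siegel_zero ext_mulVec mulVec_mul siegelMap_smul)

universe v

variable {m : ℕ} {F : Type v} [Field F]

/-- The indices of the odd form. -/
abbrev Idx (m : ℕ) : Type := Unit ⊕ Sgn m

variable (m F) in
/-- The inclusion of the odd space. -/
def Jm : Matrix (Sgn (m + 1)) (Idx m) F :=
  fun x j => Sum.elim (fun _ => if mag x = mag (pp (m := m)) then 1 else 0) (fun c => if x = emb c then 1 else 0) j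

/-- The chosen coordinate for an index of the odd form. -/
def io (j : Idx m) : Sgn (m + 1) := Sum.elim (fun _ => pp) emb j

theorem emb_ne_pp (c : Sgn m) : emb c ≠ (pp : Sgn (m + 1)) ∧ emb c ≠ op (pp : Sgn (m + 1)) ∧
    (pp : Sgn (m + 1)) ≠ emb c ∧ op (pp : Sgn (m + 1)) ≠ emb c :=
  have a := fun e => mag_emb_pp c (congrArg mag e)
  have b := fun e => mag_emb_op_pp c (congrArg mag e)
  ⟨a, b, fun e => a e.symm, fun e => b e.symm⟩

theorem Jm_io (i j : Idx m) : (Jm m F) (io i) j = (1 : Matrix (Idx m) (Idx m) F) i j := by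
  rcases i with ⟨⟩ | c <;> rcases j with ⟨⟩ | d <;> simp [Jm, io, Matrix.one_apply, mag_emb_pp, emb_inj.eq_iff, emb_ne_pp]

theorem Jm_emb (c : Sgn m) (v : Idx m → F) : ((Jm m F) *ᵥ v) (emb c) = v (Sum.inr c) := by
  rw [Matrix.mulVec, dotProduct, Fintype.sum_sum_type]
  simp [Jm, mag_emb_pp, emb_inj.eq_iff]

theorem Jm_pp {x : Sgn (m + 1)} (hx : mag x = mag (pp (m := m))) (v : Idx m → F) :
    ((Jm m F) *ᵥ v) x = v (Sum.inl ()) := by
  have : ∀ c : Sgn m, x ≠ emb c := fun c e => mag_emb_pp c (by rw [← e]; exact hx)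
  rw [Matrix.mulVec, dotProduct, Fintype.sum_sum_type]
  simp [Jm, hx, this]

theorem quad_Jm (v : Idx m → F) :
    Cfsg.quadFormPlus (m + 1) F ((Jm m F) *ᵥ v) = Cfsg.quadFormOdd m F v := by
  have e1 : ∀ j : Fin m, (Sum.inl (Fin.castSucc j) : Sgn (m + 1)) = emb (Sum.inl j) := fun _ => rfl
  have e2 : ∀ j : Fin m, (Sum.inr (Fin.castSucc j) : Sgn (m + 1)) = emb (Sum.inr j) := fun _ => rfl
  have e3 : (Sum.inl (Fin.last m) : Sgn (m + 1)) = pp := rfl
  have e4 : (Sum.inr (Fin.last m) : Sgn (m + 1)) = op pp := rfl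
  simp only [Cfsg.quadFormPlus, Cfsg.quadFormOdd, Fin.sum_univ_castSucc, e1, e2, e3, e4, Jm_emb, Jm_pp rfl,
    Jm_pp (mag_op (pp (m := m))), pow_two]
  exact add_comm _ _

/-- The complementary vector. -/
def wv : Sgn (m + 1) → F := Pi.single pp 1 - Pi.single (op pp) 1

variable (m F) in
/-- The stabiliser of the complementary vector. -/
def FixW : Subgroup ↥(O (m + 1) F) where
  carrier := {g | mat g *ᵥ wv = wv}
  one_mem' := by simp [mat_one]
  mul_mem' := fun {g k} hg hk => by
    show mat (g * k) *ᵥ wv = wv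
    rw [mat_mul, ← Matrix.mulVec_mulVec, hk, hg]
  inv_mem' := fun {g} hg => by
    show mat g⁻¹ *ᵥ wv = wv
    nth_rw 1 [← show mat g *ᵥ wv = wv from hg]
    rw [Matrix.mulVec_mulVec, ← mat_mul, inv_mul_cancel, mat_one, Matrix.one_mulVec]

theorem polar_wv (x : Sgn (m + 1) → F) :
    QuadraticMap.polar (⇑(Classical.HypQuad.plusForm (m + 1) F)) wv x = x (op pp) - x pp := by
  rw [wv, QuadraticMap.polar_sub_left, polar_single, polar_single, op_op, one_mul, one_mul]

theorem fix_equal {g : ↥(O (m + 1) F)} (hg : g ∈ FixW m F) {y : Sgn (m + 1) → F} (hy : y pp = y (op pp)) :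
    (mat g *ᵥ y) pp = (mat g *ᵥ y) (op pp) := by
  have hQ : ∀ z, (Classical.HypQuad.plusForm (m + 1) F) (mat g *ᵥ z) = (Classical.HypQuad.plusForm (m + 1) F) z :=
    fun z => by
    rw [Classical.HypQuad.plusForm_apply, Classical.HypQuad.plusForm_apply]
    exact (mem_O _).1 g.2 z
  have e : QuadraticMap.polar (⇑(Classical.HypQuad.plusForm (m + 1) F)) (mat g *ᵥ wv) (mat g *ᵥ y) =
      QuadraticMap.polar (⇑(Classical.HypQuad.plusForm (m + 1) F)) wv y := by
    simp only [QuadraticMap.polar, ← Matrix.mulVec_add, hQ]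
  rw [show mat g *ᵥ wv = wv from hg, polar_wv, polar_wv] at e
  linear_combination -e + hy

/-- The induced matrix on the odd space. -/
def Ro (g : ↥(O (m + 1) F)) : Matrix (Idx m) (Idx m) F := (mat g * (Jm m F)).submatrix io id

theorem mul_Jm {g : ↥(O (m + 1) F)} (hg : g ∈ FixW m F) : mat g * (Jm m F) = (Jm m F) * Ro g := by
  ext x j
  have hy : ∀ z, (mat g * (Jm m F)) z j = (mat g *ᵥ ((Jm m F) *ᵥ Pi.single j 1)) z := fun z => by
    rw [Matrix.mulVec_mulVec, Matrix.mulVec_single_one]; rfl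
  have hR : ((Jm m F) * Ro g) x j = ((Jm m F) *ᵥ fun i => (mat g * (Jm m F)) (io i) j) x := rfl
  rw [hR]
  rcases sgn_cases x with ⟨c, rfl⟩ | rfl | rfl
  · rw [Jm_emb]; rfl
  · rw [Jm_pp rfl]; rfl
  · rw [Jm_pp (mag_op _), hy, hy]
    exact (fix_equal hg (by rw [Jm_pp rfl, Jm_pp (mag_op _)])).symm

theorem Ro_mul {g k : ↥(O (m + 1) F)} (hg : g ∈ FixW m F) (hk : k ∈ FixW m F) : Ro (g * k) = Ro g * Ro k := by
  rw [Ro, mat_mul, Matrix.mul_assoc (mat g) (mat k) (Jm m F), mul_Jm hk, ← Matrix.mul_assoc (mat g) (Jm m F) (Ro k), mul_Jm hg,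
    Matrix.mul_assoc (Jm m F) (Ro g) (Ro k)]
  ext i j
  rw [Matrix.submatrix_apply, Matrix.mul_apply]
  simp [Jm_io, Matrix.one_apply]

theorem Ro_one : Ro (1 : ↥(O (m + 1) F)) = 1 := by
  ext i j
  rw [Ro, mat_one, Matrix.one_mul, Matrix.submatrix_apply]
  exact Jm_io i j

variable (m F) in
/-- The restriction to the odd space. -/
def toOdd : ↥(FixW m F) →* ↥(Cfsg.isometryGroup F (Cfsg.quadFormOdd m F)) :=
  MonoidHom.mk' (fun g => ⟨⟨Ro g.1, Ro (g⁻¹).1, by
      rw [← Ro_mul g.2 (g⁻¹).2, ← Subgroup.coe_mul, mul_inv_cancel, Subgroup.coe_one, Ro_one], by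
      rw [← Ro_mul (g⁻¹).2 g.2, ← Subgroup.coe_mul, inv_mul_cancel, Subgroup.coe_one, Ro_one]⟩, by
      refine (oddForm_coe (F := F) m) ▸ (Classical.Refl.mem_iff (oddForm m F)).2 ?_
      intro v
      rw [oddForm_coe]
      show Cfsg.quadFormOdd m F (Ro g.1 *ᵥ v) = _
      rw [← quad_Jm, Matrix.mulVec_mulVec, ← mul_Jm g.2, ← Matrix.mulVec_mulVec, (mem_O _).1 g.1.2, quad_Jm]⟩)
    fun g k => Subtype.ext (Units.ext (Ro_mul g.2 k.2))

theorem mat_toOdd (g : ↥(FixW m F)) :
    (((toOdd m F g : ↥(Cfsg.isometryGroup F (Cfsg.quadFormOdd m F))) : GL (Idx m) F) : Matrix (Idx m) (Idx m) F) =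
      Ro g.1 := rfl

theorem toOdd_inj (h2 : (2 : F) ≠ 0) (g : ↥(FixW m F)) (hg : toOdd m F g = 1) : g = 1 := by
  have hR : Ro g.1 = 1 := by rw [← mat_toOdd, hg]; rfl
  refine Subtype.ext (mat_ext (Matrix.toLin'.injective (LinearMap.ext fun x => ?_)))
  show mat g.1 *ᵥ x = mat (1 : ↥(O (m + 1) F)) *ᵥ x
  rw [mat_one, Matrix.one_mulVec]
  have hx : x = (Jm m F) *ᵥ Sum.elim (fun _ => (x pp + x (op pp)) / 2) (fun c => x (emb c)) +
      ((x pp - x (op pp)) / 2) • wv := by
    funext z
    rcases sgn_cases z with ⟨c, rfl⟩ | rfl | rfl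
    · simp [Jm_emb, wv, emb_ne_pp c,
        emb_ne_pp c]
    · simp [Jm_pp rfl, wv, (op_ne (pp (m := m))).symm]
      field_simp; ring
    · simp [Jm_pp (mag_op _), wv, op_ne]
      field_simp; ring
  rw [hx, Matrix.mulVec_add, Matrix.mulVec_smul, show mat g.1 *ᵥ wv = wv from g.2, Matrix.mulVec_mulVec,
    mul_Jm g.2, hR, Matrix.mul_one]

theorem T_mem_FixW {a b : Sgn m} (hab : mag a ≠ mag b) (t : F) : T (emb a) (emb b) t ∈ FixW m F := by
  show mat _ *ᵥ wv = wv
  rw [mat_T (mag_emb_ne hab), Mt_mulVec]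
  have h1 : ∀ c : Sgn m, emb c ≠ (pp : Sgn (m + 1)) := fun c e => mag_emb_pp c (congrArg mag e)
  have h3 : ∀ c : Sgn m, emb c ≠ op (pp : Sgn (m + 1)) := fun c e => mag_emb_op_pp c (congrArg mag e)
  simp [← emb_op, wv, h1, h3]

theorem Tf_mem_FixW (a : Sgn m) (t : F) : Tf a t ∈ FixW m F := by
  show mat _ *ᵥ wv = wv
  rw [Tf_mulVec]
  have h1 : ∀ c : Sgn m, emb c ≠ (pp : Sgn (m + 1)) := fun c e => mag_emb_pp c (congrArg mag e)
  have h3 : ∀ c : Sgn m, emb c ≠ op (pp : Sgn (m + 1)) := fun c e => mag_emb_op_pp c (congrArg mag e)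
  simp [← emb_op, wv, h1, h3, op_ne, (op_ne (pp (m := m))).symm]

theorem Ro_mulVec {g : ↥(O (m + 1) F)} (v : Idx m → F) :
    Ro g *ᵥ v = fun i => (mat g *ᵥ ((Jm m F) *ᵥ v)) (io i) := by
  funext i
  rw [Matrix.mulVec_mulVec]
  rfl

theorem polar_oddForm_single (p : Sgn m) (r : F) (y : Idx m → F) :
    QuadraticMap.polar (⇑(oddForm m F)) (Pi.single (Sum.inr p) r) y = r * y (Sum.inr (op p)) := by
  rcases p with p | p <;>
    simp [oddForm_coe, Cfsg.quadFormOdd, QuadraticMap.polar, Pi.single_apply, add_mul, mul_add,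
      Finset.sum_add_distrib, op] <;> ring

theorem polar_oddForm_zero (r : F) (y : Idx m → F) :
    QuadraticMap.polar (⇑(oddForm m F)) (Pi.single (Sum.inl ()) r) y = 2 * r * y (Sum.inl ()) := by
  simp [oddForm_coe, Cfsg.quadFormOdd, QuadraticMap.polar, Pi.single_apply]
  ring

theorem oddForm_single (p : Sgn m) (r : F) : (oddForm m F) (Pi.single (Sum.inr p) r) = 0 := by
  rcases p with p | p <;> simp [oddForm_coe, Cfsg.quadFormOdd, Pi.single_apply]

theorem oddForm_zero (r : F) : (oddForm m F) (Pi.single (Sum.inl ()) r) = r * r := by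
  simp [oddForm_coe, Cfsg.quadFormOdd, Pi.single_apply, pow_two]

/-- A singular vector of the odd space is moved to a multiple of a basis vector. -/
theorem exists_to_single_odd (K : Subgroup (Cfsg.isometryGroup F (⇑(oddForm m F))))
    (hL : ∀ a b t, mag a ≠ mag b → ∃ g ∈ K, Classical.Refl.mat (oddForm m F) g = Ro (T (emb a) (emb b) t))
    (hS : ∀ a t, ∃ g ∈ K, Classical.Refl.mat (oddForm m F) g = Ro (Tf a t))
    {u : Idx m → F} (hu0 : u ≠ 0) (hu : (oddForm m F) u = 0) :
    ∃ g ∈ K, ∃ (p : Sgn m) (c : F), Classical.Refl.mat (oddForm m F) g *ᵥ u = Pi.single (Sum.inr p) c := by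
  classical
  obtain ⟨p, hp⟩ : ∃ p, u (Sum.inr p) ≠ 0 := by
    by_contra e
    push Not at e
    rw [oddForm_coe, Cfsg.quadFormOdd] at hu
    simp [e] at hu
    exact hu0 (funext fun i => by rcases i with ⟨⟩ | c; exacts [hu, e c])
  have key : ∀ s : Finset (Sgn m), (∀ q ∈ s, mag q ≠ mag p) → ∃ g ∈ K,
      (Classical.Refl.mat (oddForm m F) g *ᵥ u) (Sum.inr p) = u (Sum.inr p) ∧
        ∀ q ∈ s, (Classical.Refl.mat (oddForm m F) g *ᵥ u) (Sum.inr q) = 0 := by
    intro s
    induction s using Finset.induction_on with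
    | empty => exact fun _ => ⟨1, one_mem _, by simp [Classical.Refl.mat], by simp⟩
    | @insert q s hq ih =>
      intro hs
      obtain ⟨g, hg, e1, e2⟩ := ih fun x hx => hs x (Finset.mem_insert_of_mem hx)
      have hqp := hs q (Finset.mem_insert_self q s)
      have hqp' : mag q ≠ mag (op p) := by rwa [mag_op]
      set w := Classical.Refl.mat (oddForm m F) g *ᵥ u
      obtain ⟨k, hk, ek⟩ := hL q (op p) (-w (Sum.inr q) / u (Sum.inr p)) hqp'
      have e : ∀ c : Sgn m, (Classical.Refl.mat (oddForm m F) (k * g) *ᵥ u) (Sum.inr c) =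
          (Mt (emb q) (emb (op p)) (-w (Sum.inr q) / u (Sum.inr p)) *ᵥ ((Jm m F) *ᵥ w)) (emb c) := fun c => by
        rw [show Classical.Refl.mat (oddForm m F) (k * g) *ᵥ u = Classical.Refl.mat (oddForm m F) k *ᵥ w from
          mulVec_mul (oddForm m F) k g u, ek, Ro_mulVec, ← mat_T (mag_emb_ne hqp')]
        rfl
      refine ⟨k * g, mul_mem hk hg, ?_, fun x hx => ?_⟩
      · rw [e, Mt_mulVec]
        simp [Pi.single_apply, ← emb_op, Jm_emb, emb_inj.eq_iff, (ne_of_mag hqp).1.symm, (op_ne p).symm, e1]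
      · have hxp : x ≠ op p := fun e' => hs x hx (by rw [e', mag_op])
        rw [e, Mt_mulVec]
        simp only [Pi.sub_apply, Pi.add_apply, Pi.single_apply, ← emb_op, emb_inj.eq_iff, hxp, if_false, sub_zero,
          op_op, Jm_emb, e1]
        rcases Finset.mem_insert.1 hx with rfl | hx'
        · rw [if_pos rfl]; field_simp; ring
        · rw [if_neg (fun e' : x = q => hq (by rw [← e']; exact hx')), e2 x hx', add_zero]
  obtain ⟨g, hg, e1, e2⟩ := key (Finset.univ.filter fun q => mag q ≠ mag p) (by simp)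
  set w := Classical.Refl.mat (oddForm m F) g *ᵥ u
  obtain ⟨k, hk, ek⟩ := hS (op p) (w (Sum.inl ()) / u (Sum.inr p))
  refine ⟨k * g, mul_mem hk hg, p, u (Sum.inr p), ?_⟩
  set v := Classical.Refl.mat (oddForm m F) (k * g) *ᵥ u with hv
  have ev : v = fun i => (mat (Tf (op p) (w (Sum.inl ()) / u (Sum.inr p))) *ᵥ ((Jm m F) *ᵥ w)) (io i) := by
    rw [← Ro_mulVec, ← ek]; exact mulVec_mul (oddForm m F) k g u
  have v0 : v (Sum.inl ()) = 0 := by
    rw [ev, Tf_mulVec]
    simp [io, Pi.single_apply, ← emb_op, op_op, Jm_emb, Jm_pp rfl, e1, (op_ne (pp (m := m))).symm,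
      emb_ne_pp (op p)]
    field_simp
    ring
  have vc : ∀ c : Sgn m, c ≠ op p → v (Sum.inr c) = w (Sum.inr c) := fun c hc => by
    rw [ev, Tf_mulVec]
    simp [io, Pi.single_apply, ← emb_op, Jm_emb, emb_inj.eq_iff, hc,
      emb_ne_pp c,
      emb_ne_pp c]
  have hrest : v = Pi.single (Sum.inr p) (u (Sum.inr p)) + Pi.single (Sum.inr (op p)) (v (Sum.inr (op p))) := by
    funext i
    rcases i with ⟨⟩ | x
    · simp [v0]
    rcases eq_or_ne (mag x) (mag p) with e | e
    · rcases eq_or_op e with e' | e'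
      · rw [e', vc p (op_ne p).symm, e1]; simp [(op_ne p).symm]
      · rw [e']; simp [op_ne]
    · obtain ⟨x1, x2⟩ := ne_of_mag e
      rw [vc x x2, e2 x (by simp [e])]
      simp [x1, x2]
  have hQ : (oddForm m F) v = 0 := by rw [hv, (Classical.Refl.mem_iff (oddForm m F)).mp (k * g).2, hu]
  rw [hrest, QuadraticMap.map_add (f := (oddForm m F)), oddForm_single, oddForm_single, polar_oddForm_single,
    Pi.single_eq_same, zero_add, zero_add] at hQ
  rw [hrest, (mul_eq_zero.1 hQ).resolve_left hp, Pi.single_zero, add_zero]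

/-- A subgroup of the odd group with the images of all root elements contains the derived group. -/
theorem omega_le_odd [Finite F] (h2 : (2 : F) ≠ 0) (hm : 3 ≤ m)
    (K : Subgroup (Cfsg.isometryGroup F (Cfsg.quadFormOdd m F)))
    (hK : ∀ g : ↥(FixW m F), ((∃ a b t, mag a ≠ mag b ∧ g.1 = T (emb a) (emb b) t) ∨ ∃ a t, g.1 = Tf a t) →
      toOdd m F g ∈ K) : Cfsg.Omega F (Cfsg.quadFormOdd m F) ≤ K := by
  classical
  have main : ∀ (f : (Idx m → F) → F), f = ⇑(oddForm m F) → ∀ K : Subgroup (Cfsg.isometryGroup F f),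
      (∀ a b t, mag a ≠ mag b → ∃ g ∈ K, ((g : GL (Idx m) F) : Matrix (Idx m) (Idx m) F) = Ro (T (emb a) (emb b) t)) →
      (∀ a t, ∃ g ∈ K, ((g : GL (Idx m) F) : Matrix (Idx m) (Idx m) F) = Ro (Tf a t)) → Cfsg.Omega F f ≤ K := by
    rintro f rfl K hL hS
    rw [Classical.Refl.omega_eq_closure_all (oddForm m F) (oddForm_nondegenerate h2 m) (by simp; omega),
      Subgroup.closure_le]
    rintro _ ⟨u, y, hu, huy, rfl⟩
    by_cases hu0 : u = 0
    · have : siegelG (oddForm m F) hu huy = 1 := ext_mulVec (oddForm m F) fun x => by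
        rw [mat_siegelG, show Classical.Refl.mat (oddForm m F) 1 = 1 from rfl, Matrix.one_mulVec]
        simp [siegelMap, hu0]
      rw [this]; exact one_mem _
    obtain ⟨g, hg, p, c, hgu⟩ := exists_to_single_odd K (fun a b t hab => hL a b t hab) hS hu0 hu
    suffices hmain : g * siegelG (oddForm m F) hu huy * g⁻¹ ∈ K by
      have := mul_mem (mul_mem (inv_mem hg) hmain) hg
      rwa [show g⁻¹ * (g * siegelG (oddForm m F) hu huy * g⁻¹) * g = siegelG (oddForm m F) hu huy by group] at this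
    rw [Classical.Refl.siegelG_conj]
    have hy0 : (Classical.Refl.mat (oddForm m F) g *ᵥ y) (Sum.inr (op p)) = 0 := by
      have := (Classical.Refl.polar_act (oddForm m F) g u y).trans huy
      rw [hgu, polar_oddForm_single] at this
      refine (mul_eq_zero.1 this).resolve_left fun hc => hu0 ?_
      rw [hc, Pi.single_zero] at hgu
      have := congrArg (Classical.Refl.mat (oddForm m F) g⁻¹ *ᵥ ·) hgu
      simp only [Matrix.mulVec_zero] at this
      rw [show Classical.Refl.mat (oddForm m F) g⁻¹ *ᵥ (Classical.Refl.mat (oddForm m F) g *ᵥ u) = u by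
        rw [← mulVec_mul, inv_mul_cancel]; exact Matrix.one_mulVec u] at this
      exact this
    set y' := Classical.Refl.mat (oddForm m F) g *ᵥ y
    obtain ⟨h, hh, eh⟩ : ∃ h : Cfsg.isometryGroup F (⇑(oddForm m F)), h ∈ K ∧ ∀ x,
        Classical.Refl.mat (oddForm m F) h *ᵥ x =
          siegelMap (oddForm m F) (Pi.single (Sum.inr p) 1) (c • y') x := by
      obtain ⟨z, hz', ez⟩ : ∃ z : Idx m → F, z (Sum.inr (op p)) = 0 ∧ z = c • y' := ⟨_, by simp [y', hy0], rfl⟩
      rw [← ez]
      have hz := hz'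
      have key : ∀ s : Finset (Idx m), ∀ w : Idx m → F, w = ∑ b ∈ s, Pi.single b (z b) →
          ∃ h : Cfsg.isometryGroup F (⇑(oddForm m F)), h ∈ K ∧
            ∀ x, Classical.Refl.mat (oddForm m F) h *ᵥ x = siegelMap (oddForm m F) (Pi.single (Sum.inr p) 1) w x := by
        intro s
        induction s using Finset.induction_on with
        | empty => exact fun w hw => ⟨1, one_mem _, fun x => by
            rw [hw, Finset.sum_empty, siegel_zero]; exact Matrix.one_mulVec x⟩
        | @insert b s hb ih =>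
          intro w hw
          obtain ⟨h1, m1, e1⟩ := ih _ rfl
          obtain ⟨k, mk, ek⟩ : ∃ h : Cfsg.isometryGroup F (⇑(oddForm m F)), h ∈ K ∧ ∀ x,
              Classical.Refl.mat (oddForm m F) h *ᵥ x =
                siegelMap (oddForm m F) (Pi.single (Sum.inr p) 1) (Pi.single b (z b)) x := by
            rcases b with b | q
            · obtain rfl : b = () := Subsingleton.elim _ _
              obtain ⟨h, hh, eh⟩ := hS p (-z (Sum.inl ()))
              refine ⟨h, hh, fun x => ?_⟩
              rw [show Classical.Refl.mat (oddForm m F) h = Ro (Tf p (-z (Sum.inl ()))) from eh, Ro_mulVec, Tf_mulVec]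
              funext i
              simp only [siegelMap, polar_oddForm_single, polar_oddForm_zero, oddForm_zero, Pi.add_apply,
                Pi.sub_apply, Pi.smul_apply, Pi.single_apply, smul_eq_mul, Jm_pp rfl, Jm_pp (mag_op _), ← emb_op,
                Jm_emb]
              rcases i with ⟨⟩ | c <;> simp only [io, Sum.elim_inl, Sum.elim_inr, emb_inj.eq_iff]
              · simp [Jm_pp rfl, emb_ne_pp p,
                  (op_ne (pp (m := m))).symm]
                ring
              · simp [Jm_emb, emb_ne_pp c,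
                  emb_ne_pp c]
                split_ifs <;> ring
            · rcases eq_or_ne (mag q) (mag p) with e | e
              · refine ⟨1, one_mem _, fun x => ?_⟩
                rw [show Classical.Refl.mat (oddForm m F) 1 *ᵥ x = x from Matrix.one_mulVec x]
                rcases eq_or_op e with rfl | rfl
                · funext i
                  simp only [siegelMap, polar_oddForm_single, oddForm_single, Pi.add_apply, Pi.smul_apply,
                    Pi.single_apply, smul_eq_mul]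
                  split_ifs <;> ring
                · rw [hz, Pi.single_zero, siegel_zero]
              · obtain ⟨h, hh, eh⟩ := hL q p (z (Sum.inr q)) e
                refine ⟨h, hh, fun x => ?_⟩
                rw [show Classical.Refl.mat (oddForm m F) h = Ro (T (emb q) (emb p) (z (Sum.inr q))) from eh, Ro_mulVec,
                  mat_T (mag_emb_ne e), Mt_mulVec]
                funext i
                simp only [siegelMap, polar_oddForm_single, oddForm_single, Pi.add_apply, Pi.sub_apply,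
                  Pi.smul_apply, Pi.single_apply, smul_eq_mul, ← emb_op, Jm_emb]
                rcases i with ⟨⟩ | c <;> simp only [io, Sum.elim_inl, Sum.elim_inr, emb_inj.eq_iff]
                · simp [Jm_pp rfl, emb_ne_pp p,
                    emb_ne_pp q]
                · simp [Jm_emb]
                  split_ifs <;> ring
          refine ⟨k * h1, mul_mem mk m1, fun x => ?_⟩
          have hort : ∀ t : Finset (Idx m), QuadraticMap.polar (⇑(oddForm m F)) (Pi.single (Sum.inr p) (1 : F))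
              (∑ c ∈ t, Pi.single c (z c)) = 0 := by
            intro t
            rw [polar_oddForm_single, one_mul, Finset.sum_apply]
            refine Finset.sum_eq_zero fun c _ => ?_
            by_cases hc : (Sum.inr (op p) : Idx m) = c
            · subst hc; rw [Pi.single_eq_same, hz]
            · rw [Pi.single_eq_of_ne hc]
          rw [hw, Finset.sum_insert hb, ← siegel_add (oddForm m F) (oddForm_single p 1) (by simpa using hort {b})
            (hort s), ← e1, ← ek]
          exact mulVec_mul (oddForm m F) k h1 x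
      exact key Finset.univ z (Finset.univ_sum_single z).symm
    suffices e : siegelG (oddForm m F) _ _ = h from e ▸ hh
    refine ext_mulVec (oddForm m F) fun x => ?_
    rw [mat_siegelG, eh, ← siegelMap_smul, hgu, ← Pi.single_smul, smul_eq_mul, mul_one]
  exact main _ (oddForm_coe m).symm K (fun a b t hab => ⟨toOdd m F ⟨_, T_mem_FixW hab t⟩,
    hK _ (Or.inl ⟨a, b, t, hab, rfl⟩), rfl⟩) fun a t => ⟨toOdd m F ⟨_, Tf_mem_FixW a t⟩, hK _ (Or.inr ⟨a, t, rfl⟩), rfl⟩

theorem center_omega_odd [Finite F] (h2 : (2 : F) ≠ 0) (hm : 3 ≤ m) :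
    Subgroup.center ↥(Cfsg.Omega F (Cfsg.quadFormOdd m F)) = ⊥ := by
  have main : ∀ (f : (Idx m → F) → F), f = ⇑(oddForm m F) → Subgroup.center ↥(Cfsg.Omega F f) = ⊥ := by
    rintro f rfl
    rw [Subgroup.eq_bot_iff_forall]
    intro g hg
    have hdet : ((g.1 : GL (Idx m) F) : Matrix (Idx m) (Idx m) F).det = 1 := by
      have hle : Cfsg.Omega F (⇑(oddForm m F)) ≤
          ((Matrix.GeneralLinearGroup.det : GL (Idx m) F →* Fˣ).comp (Subgroup.subtype _)).ker :=
        Abelianization.commutator_subset_ker _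
      exact congrArg Units.val (hle g.2)
    rcases (Classical.Refl.mem_center_iff_sign (oddForm m F) (oddForm_nondegenerate h2 m) (by simp; omega)).1 hg with
      e | e
    · exact Subtype.ext (Subtype.ext (Units.ext e))
    · exfalso
      rw [show ((g.1 : GL (Idx m) F) : Matrix (Idx m) (Idx m) F) = -1 from e, Matrix.det_neg, Matrix.det_one,
        mul_one] at hdet
      have : Odd (Fintype.card (Idx m)) := ⟨m, by simp; omega⟩
      rw [this.neg_one_pow] at hdet
      exact h2 (by linear_combination -hdet)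
  exact main _ (oddForm_coe m).symm

end Cfsg.Lib.BSt
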