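import Cfsg.Agent.Known.BSt.Kernel
import Cfsg.Agent.Known.BSt.Lift
import Cfsg.Agent.Known.BSt.Odd
import Cfsg.Agent.Known.OPlusSt.Finish

/-!
# The cover of the simple orthogonal group of odd dimension
-/

set_option autoImplicit false
set_option linter.unusedSectionVars false

open scoped commutatorElement
open Matrix

namespace Cfsg.Lib.BSt

open Cfsg.Lib.SpPres (Sgn op mag op_op op_inj op_ne mag_op eq_or_op ne_of_mag op_eq_iff)
open Cfsg.Lib.OPlusSt (Rels W hh O T mat mat_one Gamma XG rels_XG proj proj_XG)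

universe u v

variable {m : ℕ} {F : Type v} [Field F] {G : Type u} [Group G]

section Sub

variable {X : Sgn m → Sgn m → F → G} {S : Sgn m → F → G}

/-- The subgroup of a family of root elements. -/
def Hull (X : Sgn m → Sgn m → F → G) (S : Sgn m → F → G) : Subgroup G := genB X S fun _ _ => True

/-- The long root elements inside the subgroup. -/
def Xh (X : Sgn m → Sgn m → F → G) (S : Sgn m → F → G) (a b : Sgn m) (t : F) : ↥(Hull X S) :=
  if h : mag a ≠ mag b then
    ⟨X a b t, by rw [← R_long (X := X) (S := S) h t]; exact mem_genB (Or.inr h) trivial t⟩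
  else 1

/-- The short root elements inside the subgroup. -/
def Sh (X : Sgn m → Sgn m → F → G) (S : Sgn m → F → G) (a : Sgn m) (t : F) : ↥(Hull X S) :=
  ⟨S a t, by rw [← R_self (X := X) (S := S) a t]; exact mem_genB (Or.inl rfl) trivial t⟩

theorem coe_Xh {a b : Sgn m} (h : mag a ≠ mag b) (t : F) : (Xh X S a b t : G) = X a b t := by rw [Xh, dif_pos h]

theorem coe_Sh (a : Sgn m) (t : F) : (Sh X S a t : G) = S a t := rfl

theorem hull_top : genB (Xh X S) (Sh X S) (fun _ _ => True) = ⊤ := by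
  refine Subgroup.map_injective (Hull X S).subtype_injective ?_
  rw [genB, MonoidHom.map_closure, ← MonoidHom.range_eq_map, Subgroup.range_subtype]
  show Subgroup.closure _ = Subgroup.closure _
  congr 1
  ext g
  have key : ∀ a b t, IsRt a b → ((R (Xh X S) (Sh X S) a b t : ↥(Hull X S)) : G) = R X S a b t := by
    rintro a b t (rfl | hab)
    · rw [R_self, R_self]; rfl
    · rw [R_long hab, R_long hab, coe_Xh hab]
  constructor
  · rintro ⟨_, ⟨a, b, t, hab, -, rfl⟩, rfl⟩
    exact ⟨a, b, t, hab, trivial, key a b t hab⟩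
  · rintro ⟨a, b, t, hab, -, rfl⟩
    exact ⟨_, ⟨a, b, t, hab, trivial, rfl⟩, key a b t hab⟩

theorem rels_hull (h : RelsB X S) : RelsB (Xh X S) (Sh X S) := by
  refine ⟨⟨fun a b hab t => Subtype.ext ?_, fun a b hab t u => Subtype.ext ?_,
    fun a b c e hab hce h1 h2 h3 h4 t u => Subtype.ext ?_, fun a b hab t u => Subtype.ext ?_,
    fun a b c hab hbc hac t u => Subtype.ext ?_⟩, fun a t u => Subtype.ext (h.sadd a t u),
    fun a b hab t u => Subtype.ext ?_, fun a b c hab h1 h2 t u => Subtype.ext ?_, fun a b hab t u => Subtype.ext ?_⟩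
  · rw [coe_Xh hab.symm, coe_Xh hab]; exact h.long.anti a b hab t
  · rw [Subgroup.coe_mul, coe_Xh hab, coe_Xh hab, coe_Xh hab]; exact h.long.add a b hab t u
  · rw [Subgroup.coe_mul, Subgroup.coe_mul, coe_Xh hab, coe_Xh hce]
    exact (h.long.disj a b c e hab hce h1 h2 h3 h4 t u).eq
  · rw [Subgroup.coe_mul, Subgroup.coe_mul, coe_Xh hab, coe_Xh (by rwa [mag_op])]
    exact (h.long.opp a b hab t u).eq
  · show ⁅(Xh X S a b t : G), (Xh X S (op b) c u : G)⁆ = _
    rw [coe_Xh hab, coe_Xh (by rwa [mag_op]), coe_Xh hac]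
    exact h.long.chain a b c hab hbc hac t u
  · show ⁅(Sh X S a t : G), (Sh X S b u : G)⁆ = _
    rw [coe_Sh, coe_Sh, coe_Xh hab]; exact h.ss a b hab t u
  · rw [Subgroup.coe_mul, Subgroup.coe_mul, coe_Xh hab, coe_Sh]; exact (h.ls a b c hab h1 h2 t u).eq
  · show ⁅(Xh X S a b t : G), (Sh X S (op b) u : G)⁆ = _
    rw [Subgroup.coe_mul, coe_Xh hab, coe_Sh, coe_Sh, coe_Xh (by rwa [mag_op])]; exact h.chainS a b hab t u

theorem perfect_of_rels (h : RelsB X S) (hm : 3 ≤ m) (h2 : (2 : F) ≠ 0)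
    (hgen : genB X S (fun _ _ => True) = ⊤) : commutator G = ⊤ := by
  have hX : ∀ a b, mag a ≠ mag b → ∀ t, X a b t ∈ commutator G := fun a b hab t => by
    have e := h.ss a b hab t (-(2⁻¹ : F))
    rw [show -(2 * t * -2⁻¹) = t by field_simp] at e
    rw [← e]
    exact Subgroup.commutator_mem_commutator (Subgroup.mem_top _) (Subgroup.mem_top _)
  rw [eq_top_iff, ← hgen, genB, Subgroup.closure_le]
  rintro _ ⟨a, b, t, hab, -, rfl⟩
  rcases hab with rfl | hab
  · obtain ⟨b, hb, -⟩ := exists_third hm a a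
    have hab' : mag a ≠ mag (op b) := by rw [mag_op]; exact hb.symm
    rw [R_self]
    have e := h.chainS a b hb.symm t 1
    rw [mul_one, mul_one] at e
    have : S a t = ⁅X a b t, S (op b) 1⁆ * (X a (op b) t)⁻¹ := by rw [e, mul_inv_cancel_right]
    rw [SetLike.mem_coe, this]
    exact mul_mem (Subgroup.commutator_mem_commutator (Subgroup.mem_top _) (Subgroup.mem_top _))
      (inv_mem (hX _ _ hab' t))
  · rw [R_long hab]; exact hX a b hab t

end Sub

section Universal

variable [Finite F] [Finite G] {X0 : Sgn m → Sgn m → F → G} {S0 : Sgn m → F → G} {φ : G →* ↥(O (m + 1) F)}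

/-- A cover with the relations of type `B` and kernel of order two is universal. -/
theorem multiplier_of_cover {Q : Type u} [Group Q] [Finite Q] (h0 : RelsB X0 S0) (hm : 3 ≤ m) (h2 : (2 : F) ≠ 0)
    (hexc : ¬ (m = 3 ∧ Nat.card F = 3))
    (hX0 : ∀ a b, mag a ≠ mag b → ∀ t, φ (X0 a b t) = T (emb a) (emb b) t) (hS0 : ∀ a t, φ (S0 a t) = Tf a t)
    (hgen : genB X0 S0 (fun _ _ => True) = ⊤) (hcard : Nat.card φ.ker = 2) (hcen : φ.ker ≤ Subgroup.center G)
    (π : G →* Q) (hπs : Function.Surjective π) (hπk : π.ker = φ.ker) : Cfsg.HasCyclicSchurMultiplier Q 2 := by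
  have hperf : commutator G = ⊤ := perfect_of_rels h0 hm h2 hgen
  have hπ : Cfsg.IsStemExtension π := ⟨hπs, hπk ▸ hcen, by rw [hperf]; exact le_top⟩
  have hπ2 : Nat.card π.ker = 2 := by rw [hπk]; exact hcard
  haveI : Fact (Nat.Prime 2) := ⟨Nat.prime_two⟩
  have hπcyc : IsCyclic π.ker := isCyclic_of_prime_card hπ2
  refine Cfsg.Lib.Schur.hasCyclicSchurMultiplier_of _
    ⟨G, inferInstance, inferInstance, π, hπ, hπcyc, hπ2⟩ fun Γ _ _ σ hσ => ?_
  -- the fibre product
  let P : Subgroup (Γ × G) := (σ.comp (MonoidHom.fst _ _)).eqLocus (π.comp (MonoidHom.snd _ _))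
  let τ : P →* G := (MonoidHom.snd _ _).comp P.subtype
  have hτs : Function.Surjective τ := fun g => by
    obtain ⟨x, hx⟩ := hσ.1 (π g)
    exact ⟨⟨(x, g), hx⟩, rfl⟩
  have hτc : τ.ker ≤ Subgroup.center P := by
    rintro ⟨⟨x, g⟩, hgx⟩ hp
    have hg : g = 1 := hp
    subst hg
    have hx : σ x = 1 := (hgx : σ x = π 1).trans (map_one π)
    rw [Subgroup.mem_center_iff]
    rintro ⟨⟨x', g'⟩, -⟩
    exact Subtype.ext (Prod.ext (Subgroup.mem_center_iff.mp (hσ.2.1 hx) x') ((mul_one g').trans (one_mul g').symm))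
  obtain ⟨X, S, hXS, hX, hS⟩ := exists_relsB h0 hm hτs hτc h2 hexc
  let τ1 : ↥(Hull X S) →* G := τ.comp (Hull X S).subtype
  have hX1 : ∀ a b, mag a ≠ mag b → ∀ t, τ1 (Xh X S a b t) = X0 a b t := fun a b hab t => by
    show τ (Xh X S a b t : P) = _
    rw [coe_Xh hab, hX a b hab]
  have hS1 : ∀ a t, τ1 (Sh X S a t) = S0 a t := fun a t => hS a t
  obtain ⟨-, hfin1, hle1⟩ := ker_bound (φ := φ.comp τ1) (rels_hull hXS) hm
    (fun a b hab t => by rw [MonoidHom.comp_apply, hX1 a b hab, hX0 a b hab])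
    (fun a t => by rw [MonoidHom.comp_apply, hS1, hS0]) hull_top
  have hτ1s : Function.Surjective τ1 := by
    rw [← MonoidHom.range_eq_top, eq_top_iff, ← hgen, genB, Subgroup.closure_le]
    rintro _ ⟨a, b, t, hab, -, rfl⟩
    rcases hab with rfl | hab
    · exact ⟨Sh X S a t, by rw [hS1, R_self]⟩
    · exact ⟨Xh X S a b t, by rw [hX1 a b hab, R_long hab]⟩
  have hle' : Nat.card (φ.comp τ1).ker ≤ Nat.card φ.ker := by
    rw [hcard]; exact hle1.trans (OPlusSt.card_roots_le.trans (Nat.gcd_le_left _ (by norm_num)))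
  haveI := hfin1
  let f : (φ.comp τ1).ker → φ.ker := fun x => ⟨τ1 x.1, x.2⟩
  have hf : Function.Surjective f := fun y => by
    obtain ⟨x, hx⟩ := hτ1s y.1
    exact ⟨⟨x, by show φ (τ1 x) = 1; rw [hx]; exact y.2⟩, Subtype.ext hx⟩
  have hb := hf.bijective_of_nat_card_le hle'
  have hτ1i : Function.Injective τ1 := by
    refine (injective_iff_map_eq_one τ1).2 fun x hx => ?_
    have h1 : x ∈ (φ.comp τ1).ker := by rw [MonoidHom.mem_ker, MonoidHom.comp_apply, hx, map_one]
    exact congrArg Subtype.val (hb.1 (show f ⟨x, h1⟩ = f 1 from Subtype.ext (hx.trans (map_one τ1).symm)))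
  let e := MulEquiv.ofBijective τ1 ⟨hτ1i, hτ1s⟩
  let η : G →* Γ :=
    ((MonoidHom.fst _ _).comp P.subtype).comp ((Hull X S).subtype.comp e.symm.toMonoidHom)
  have hη : ∀ g, σ (η g) = π g := fun g => by
    have h1 : τ1 (e.symm g) = g := e.apply_symm_apply g
    have h2' := ((e.symm g : ↥(Hull X S)) : P).2
    show σ ((e.symm g : ↥(Hull X S)) : P).1.1 = π g
    exact h2'.trans (congrArg π h1)
  have htop : η.range = ⊤ := SpMult.eq_top_of_map hσ (by
    rw [← MonoidHom.range_comp, MonoidHom.range_eq_top]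
    intro y
    obtain ⟨g, hg⟩ := hπs y
    exact ⟨g, (hη g).trans hg⟩)
  let p : π.ker →* σ.ker := MonoidHom.mk' (fun x => ⟨η x.1, by rw [MonoidHom.mem_ker, hη]; exact x.2⟩)
    fun a b => Subtype.ext (map_mul η _ _)
  have hp : Function.Surjective p := fun k => by
    obtain ⟨g, hg⟩ := (show k.1 ∈ η.range by rw [htop]; trivial)
    exact ⟨⟨g, by rw [MonoidHom.mem_ker, ← hη, hg]; exact k.2⟩, Subtype.ext hg⟩
  haveI := hπcyc
  exact ⟨isCyclic_of_surjective p hp, hπ2 ▸ Subgroup.card_dvd_of_surjective p hp⟩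

end Universal

variable (m F) in
/-- The cover. -/
noncomputable def GB : Subgroup ↥(Gamma (m + 1) F) :=
  Hull (fun a b => XG (emb a) (emb b)) (Sf (XG (n := m + 1) (F := F)))

/-- The long root elements of the cover. -/
noncomputable def XB (a b : Sgn m) (t : F) : ↥(GB m F) :=
  Xh (fun a b => XG (emb a) (emb b)) (Sf (XG (n := m + 1) (F := F))) a b t

/-- The short root elements of the cover. -/
noncomputable def SB (a : Sgn m) (t : F) : ↥(GB m F) :=
  Sh (fun a b => XG (emb a) (emb b)) (Sf (XG (n := m + 1) (F := F))) a t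

theorem coe_XB {a b : Sgn m} (h : mag a ≠ mag b) (t : F) :
    (XB a b t : ↥(Gamma (m + 1) F)) = XG (emb a) (emb b) t := coe_Xh h t

theorem relsB_cover : RelsB (XB (m := m) (F := F)) SB := rels_hull (relsB_fold rels_XG)

theorem gen_cover : genB (XB (m := m) (F := F)) SB (fun _ _ => True) = ⊤ := hull_top

variable (m F) in
/-- The cover in the orthogonal group. -/
noncomputable def phiB : ↥(GB m F) →* ↥(O (m + 1) F) := (proj (m + 1) F).comp (GB m F).subtype

theorem phiB_X : ∀ a b, mag a ≠ mag b → ∀ t, phiB m F (XB a b t) = T (emb a) (emb b) t := fun a b hab t => by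
  show proj (m + 1) F (Xh _ _ a b t).1 = _
  rw [coe_Xh hab]; exact proj_XG _ _ (mag_emb_ne hab) t

theorem phiB_S : ∀ a t, phiB m F (SB a t) = Tf a t := fun a t => by
  show proj (m + 1) F (Sf XG a t) = _
  rw [Sf, map_mul, proj_XG _ _ (mag_emb_pp a), proj_XG _ _ (mag_emb_op_pp a)]
  rfl

theorem phiB_mem (g : ↥(GB m F)) : phiB m F g ∈ FixW m F := by
  have hle : (⊤ : Subgroup ↥(GB m F)) ≤ (FixW m F).comap (phiB m F) := by
    rw [← gen_cover, genB, Subgroup.closure_le]
    rintro _ ⟨a, b, t, hab, -, rfl⟩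
    rw [SetLike.mem_coe, Subgroup.mem_comap]
    rcases hab with rfl | hab
    · rw [R_self, phiB_S]; exact Tf_mem_FixW a t
    · rw [R_long hab, phiB_X a b hab]; exact T_mem_FixW hab t
  exact hle (Subgroup.mem_top g)

variable (m F) in
/-- The cover in the odd orthogonal group. -/
noncomputable def rhoB : ↥(GB m F) →* ↥(Cfsg.isometryGroup F (Cfsg.quadFormOdd m F)) :=
  (toOdd m F).comp ((phiB m F).codRestrict _ phiB_mem)

variable [Finite F] (h2 : (2 : F) ≠ 0) (hm : 3 ≤ m)
include h2 hm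

theorem ker_rhoB : (rhoB m F).ker = (phiB m F).ker := by
  ext g
  rw [MonoidHom.mem_ker, MonoidHom.mem_ker]
  constructor
  · intro hg; exact congrArg Subtype.val (toOdd_inj h2 _ hg)
  · intro hg
    show toOdd m F _ = 1
    rw [show (phiB m F).codRestrict _ phiB_mem g = 1 from Subtype.ext hg, map_one]

set_option maxHeartbeats 1000000 in
theorem card_ker_phiB : Nat.card (phiB m F).ker = 2 ∧ (phiB m F).ker ≤ Subgroup.center _ := by
  obtain ⟨hcen, hfin, hle⟩ := ker_bound (relsB_cover (m := m) (F := F)) hm phiB_X phiB_S gen_cover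
  refine ⟨le_antisymm ((hle.trans OPlusSt.card_roots_le).trans (Nat.gcd_le_left _ (by norm_num))) ?_, hcen⟩
  obtain ⟨a, b, hab⟩ : ∃ a b : Sgn m, mag a ≠ mag b :=
    ⟨Sum.inl ⟨0, by omega⟩, Sum.inl ⟨1, by omega⟩, by simp [mag]⟩
  have hab' : mag a ≠ mag (op b) := by rwa [mag_op]
  have hcoe : ∀ {a b : Sgn m}, mag a ≠ mag b → ∀ t : F,
      (GB m F).subtype (hh XB a b t) = hh (XG (n := m + 1) (F := F)) (emb a) (emb b) t := by
    intro a b hab t
    have hba : mag (op b) ≠ mag (op a) := by rw [mag_op, mag_op]; exact hab.symm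
    have hW : ∀ t, (GB m F).subtype (W XB a b t) = W (XG (n := m + 1) (F := F)) (emb a) (emb b) t := fun t => by
      rw [W, W, map_mul, map_mul]
      simp only [Subgroup.coe_subtype, coe_XB hab, coe_XB hba, emb_op]
    rw [hh, hh, map_mul, map_inv, hW, hW]
  obtain ⟨hk1, hk2⟩ := OPlusSt.minus_spec (n := m + 1) (F := F) (by omega) (mag_emb_ne hab) h2
  rw [← emb_op, ← hcoe hab, ← hcoe hab', ← map_mul] at hk1 hk2
  haveI := hfin
  rw [Nat.add_one_le_iff, Finite.one_lt_card_iff_nontrivial]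
  refine ⟨⟨1, one_mem _⟩, ⟨hh XB a b (-1) * hh XB a (op b) (-1), hk1⟩, fun e => hk2 ?_⟩
  have e' : hh XB a b (-1) * hh XB a (op b) (-1) = (1 : ↥(GB m F)) := (congrArg Subtype.val e).symm
  rw [e', map_one]

theorem finite_GB : Finite ↥(GB m F) := by
  obtain ⟨-, hfin, -⟩ := ker_bound (relsB_cover (m := m) (F := F)) hm phiB_X phiB_S gen_cover
  have : Finite (↥(GB m F) ⧸ (phiB m F).ker) :=
    Finite.of_equiv _ (QuotientGroup.quotientKerEquivRange (phiB m F)).symm.toEquiv
  exact Finite.of_subgroup_quotient (phiB m F).ker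

theorem range_rhoB : (rhoB m F).range = Cfsg.Omega F (Cfsg.quadFormOdd m F) := by
  refine le_antisymm ?_ (omega_le_odd h2 hm _ fun g hg => ?_)
  · rw [MonoidHom.range_eq_map, ← perfect_of_rels relsB_cover hm h2 gen_cover, commutator_def,
      Subgroup.map_commutator]
    exact Subgroup.commutator_mono le_top le_top
  · rcases hg with ⟨a, b, t, hab, e⟩ | ⟨a, t, e⟩
    · exact ⟨XB a b t, congrArg (toOdd m F) (Subtype.ext ((phiB_X a b hab t).trans e.symm))⟩
    · exact ⟨SB a t, congrArg (toOdd m F) (Subtype.ext ((phiB_S a t).trans e.symm))⟩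

/-- The multiplier of the simple orthogonal group of odd dimension. -/
theorem odd_multiplier (hexc : ¬ (m = 3 ∧ Nat.card F = 3)) :
    Cfsg.HasCyclicSchurMultiplier (Cfsg.POmega F (Cfsg.quadFormOdd m F)) 2 := by
  haveI := finite_GB (m := m) (F := F) h2 hm
  haveI := Fintype.ofFinite F
  obtain ⟨hcard, hcen⟩ := card_ker_phiB (m := m) (F := F) h2 hm
  let toOm : ↥(GB m F) →* ↥(Cfsg.Omega F (Cfsg.quadFormOdd m F)) :=
    (rhoB m F).codRestrict _ fun g => range_rhoB (m := m) (F := F) h2 hm ▸ ⟨g, rfl⟩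
  let π : ↥(GB m F) →* Cfsg.POmega F (Cfsg.quadFormOdd m F) := (QuotientGroup.mk' _).comp toOm
  have hπs : Function.Surjective π := by
    refine (QuotientGroup.mk'_surjective _).comp fun g => ?_
    obtain ⟨x, hx⟩ : g.1 ∈ (rhoB m F).range := by rw [range_rhoB h2 hm]; exact g.2
    exact ⟨x, Subtype.ext hx⟩
  have hπk : π.ker = (phiB m F).ker := by
    rw [← ker_rhoB h2 hm]
    ext g
    rw [MonoidHom.mem_ker, MonoidHom.mem_ker]
    refine (QuotientGroup.eq_one_iff (toOm g)).trans ?_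
    rw [center_omega_odd h2 hm, Subgroup.mem_bot, Subtype.ext_iff]
    rfl
  exact multiplier_of_cover (G := ↥(GB m F)) relsB_cover hm h2 hexc phiB_X phiB_S gen_cover hcard hcen π hπs hπk

end Cfsg.Lib.BSt
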